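import Groth.Agent.Sga4h.H929.NDef
import Mathlib.AlgebraicGeometry.PullbackCarrier
import Mathlib.RingTheory.Polynomial.IsIntegral
import Mathlib.AlgebraicGeometry.Morphisms.ClosedImmersion
import Mathlib.AlgebraicGeometry.Morphisms.FiniteType
import Mathlib.AlgebraicGeometry.Noetherian

/-!
# Geometry of the Kloosterman recursion

`A¹ × A¹ = Spec K[X][X]` with coordinates `(w, v)`; `mult = w v`.
-/

set_option autoImplicit false
universe u

open CategoryTheory CategoryTheory.Limits AlgebraicGeometry Opposite Polynomial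
open scoped LaurentPolynomial

namespace Groth.Agent.Sga4h.H921.Geo

section pullbacks

/-- `Spec B[X] = Spec A[X] ×_{Spec A} Spec B`. -/
theorem isPullback_poly {A B : Type u} [CommRing A] [CommRing B] (φ : A →+* B) :
    IsPullback (Spec.map (CommRingCat.ofHom (Polynomial.C : B →+* B[X])))
      (Spec.map (CommRingCat.ofHom (Polynomial.mapRingHom φ)))
      (Spec.map (CommRingCat.ofHom φ)) (Spec.map (CommRingCat.ofHom (Polynomial.C : A →+* A[X]))) := by
  algebraize [φ, Polynomial.mapRingHom φ]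
  have h := isPullback_SpecMap_of_isPushout _ _ _ _
    (CommRingCat.isPushout_of_isPushout A B A[X] B[X])
  exact h

theorem range_of_isPullback {X Y Z W : Scheme.{u}} {g' : W ⟶ X} {f' : W ⟶ Y} {f : X ⟶ Z} {g : Y ⟶ Z}
    (H : IsPullback g' f' f g) : Set.range f' = g ⁻¹' Set.range f := by
  have h1 : H.isoPullback.hom ≫ pullback.snd f g = f' := H.isoPullback_hom_snd
  have h2 : Set.range f' = Set.range (pullback.snd f g) := by
    rw [← h1]
    ext x
    constructor
    · rintro ⟨y, rfl⟩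
      exact ⟨H.isoPullback.hom y, (Scheme.Hom.comp_apply _ _ _).symm⟩
    · rintro ⟨y, rfl⟩
      refine ⟨H.isoPullback.inv y, ?_⟩
      rw [← Scheme.Hom.comp_apply, Iso.inv_hom_id_assoc]
  rw [h2, Scheme.Pullback.range_snd]

theorem isCompl_of_isPullback {X Y Z W X' W' : Scheme.{u}} {g' : W ⟶ X} {f' : W ⟶ Y} {f : X ⟶ Z} {g : Y ⟶ Z}
    {g₁' : W' ⟶ X'} {f₁' : W' ⟶ Y} {f₁ : X' ⟶ Z}
    (H : IsPullback g' f' f g) (H₁ : IsPullback g₁' f₁' f₁ g) (h : IsCompl (Set.range f) (Set.range f₁)) :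
    IsCompl (Set.range f') (Set.range f₁') := by
  rw [range_of_isPullback H, range_of_isPullback H₁, ← h.compl_eq, Set.preimage_compl]
  exact isCompl_compl

end pullbacks

section line

variable (K : Type u) [Field K]

open Groth.Agent.Sga4h.H929.NDef

instance isOpenImmersion_ι : IsOpenImmersion (ι K) :=
  letI := (Polynomial.toLaurent : K[X] →+* K[T;T⁻¹]).toAlgebra
  have : IsLocalization.Away (X : K[X]) K[T;T⁻¹] := LaurentPolynomial.isLocalization
  IsOpenImmersion.of_isLocalization (X : K[X])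

theorem surjective_eval : Function.Surjective (Polynomial.evalRingHom (0 : K)) := fun a => ⟨C a, by simp⟩

instance isClosedImmersion_zero : IsClosedImmersion (zero K) :=
  IsClosedImmersion.spec_of_surjective _ (surjective_eval K)

theorem isCompl_zero_ι : IsCompl (Set.range (zero K)) (Set.range (ι K)) := by
  let := (Polynomial.toLaurent : K[X] →+* K[T;T⁻¹]).toAlgebra
  have : IsLocalization.Away (X : K[X]) K[T;T⁻¹] := LaurentPolynomial.isLocalization
  have h1 : Set.range (ι K) = (PrimeSpectrum.basicOpen (X : K[X]) : Set (PrimeSpectrum K[X])) :=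
    PrimeSpectrum.localization_away_comap_range K[T;T⁻¹] (X : K[X])
  have h2 : Set.range (zero K) = PrimeSpectrum.zeroLocus {(X : K[X])} := by
    have h3 : Set.range (zero K) = PrimeSpectrum.zeroLocus (RingHom.ker (Polynomial.evalRingHom (0 : K)) : Set K[X]) :=
      range_comap_of_surjective _ _ (surjective_eval K)
    rw [h3]
    have h4 : RingHom.ker (Polynomial.evalRingHom (0 : K)) = Ideal.span {(X : K[X])} := by
      have := Polynomial.ker_evalRingHom (0 : K)
      simpa using this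
    rw [h4, PrimeSpectrum.zeroLocus_span]
  rw [h1, h2, PrimeSpectrum.basicOpen_eq_zeroLocus_compl]
  exact isCompl_compl

/-- `A¹ × A¹ ⟶ A¹`, `(w, v) ↦ w` -/
noncomputable abbrev prw : Spec (CommRingCat.of K[X][X]) ⟶ Spec (CommRingCat.of K[X]) :=
  Spec.map (CommRingCat.ofHom (Polynomial.C : K[X] →+* K[X][X]))

/-- the comorphism of the multiplication `A¹ × A¹ ⟶ A¹`, `(w, v) ↦ w v` -/
noncomputable abbrev multR : K[X] →+* K[X][X] :=
  (Polynomial.aeval (Polynomial.C (X : K[X]) * X : K[X][X]) : K[X] →ₐ[K] K[X][X]).toRingHom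

/-- the multiplication `A¹ × A¹ ⟶ A¹`, `(w, v) ↦ w v` -/
noncomputable abbrev mult : Spec (CommRingCat.of K[X][X]) ⟶ Spec (CommRingCat.of K[X]) :=
  Spec.map (CommRingCat.ofHom (multR K))

/-- `{w = 0} ⟶ A¹ × A¹` -/
noncomputable abbrev iw : Spec (CommRingCat.of K[X]) ⟶ Spec (CommRingCat.of K[X][X]) :=
  Spec.map (CommRingCat.ofHom (Polynomial.mapRingHom (Polynomial.evalRingHom (0 : K))))

/-- `{w ≠ 0} ⟶ A¹ × A¹` -/
noncomputable abbrev jw : Spec (CommRingCat.of (K[T;T⁻¹])[X]) ⟶ Spec (CommRingCat.of K[X][X]) :=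
  Spec.map (CommRingCat.ofHom (Polynomial.mapRingHom (Polynomial.toLaurent : K[X] →+* K[T;T⁻¹])))

/-- the comorphism of `(w, a) ↦ (w, a / w)` -/
noncomputable abbrev epsR : (K[T;T⁻¹])[X] →+* (K[T;T⁻¹])[X] :=
  (Polynomial.aeval (aox K) : (K[T;T⁻¹])[X] →ₐ[K[T;T⁻¹]] (K[T;T⁻¹])[X]).toRingHom

/-- `(w, a) ↦ (w, a / w)` -/
noncomputable abbrev eps : Spec (CommRingCat.of (K[T;T⁻¹])[X]) ⟶ Spec (CommRingCat.of (K[T;T⁻¹])[X]) :=
  Spec.map (CommRingCat.ofHom (epsR K))

theorem isPullback_iw : IsPullback (str K) (iw K) (zero K) (prw K) := isPullback_poly _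

theorem isPullback_jw : IsPullback (prx K) (jw K) (ι K) (prw K) := isPullback_poly _

instance isClosedImmersion_iw : IsClosedImmersion (iw K) :=
  MorphismProperty.of_isPullback (isPullback_iw K) (isClosedImmersion_zero K)

instance isOpenImmersion_jw : IsOpenImmersion (jw K) :=
  MorphismProperty.of_isPullback (isPullback_jw K) (isOpenImmersion_ι K)

theorem isCompl_iw_jw : IsCompl (Set.range (iw K)) (Set.range (jw K)) :=
  isCompl_of_isPullback (isPullback_iw K) (isPullback_jw K) (isCompl_zero_ι K)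

theorem iw_mult : iw K ≫ mult K = str K ≫ zero K := by
  rw [← Spec.map_comp, ← Spec.map_comp, ← CommRingCat.ofHom_comp, ← CommRingCat.ofHom_comp]
  congr 2
  apply Polynomial.ringHom_ext
  · intro a; simp
  · simp

theorem eps_jw_mult : eps K ≫ jw K ≫ mult K = pra K := by
  rw [← Spec.map_comp, ← Spec.map_comp, ← CommRingCat.ofHom_comp, ← CommRingCat.ofHom_comp]
  congr 2
  apply Polynomial.ringHom_ext
  · intro a; simp
  · have h1 : (C (LaurentPolynomial.T 1 : K[T;T⁻¹]) * (C (LaurentPolynomial.T (-1) : K[T;T⁻¹]) * X) :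
        (K[T;T⁻¹])[X]) = X := by
      rw [← mul_assoc, ← map_mul, ← LaurentPolynomial.T_add]; simp
    simpa using h1

theorem eps_prx : eps K ≫ prx K = prx K := by
  rw [← Spec.map_comp, ← CommRingCat.ofHom_comp]
  congr 2
  ext a <;> simp

instance isIso_eps : IsIso (eps K) := by
  have h1 : (C (LaurentPolynomial.T 1 : K[T;T⁻¹]) * (C (LaurentPolynomial.T (-1) : K[T;T⁻¹]) * X) :
      (K[T;T⁻¹])[X]) = X := by
    rw [← mul_assoc, ← map_mul, ← LaurentPolynomial.T_add]; simp
  have h2 : (C (LaurentPolynomial.T (-1) : K[T;T⁻¹]) * (C (LaurentPolynomial.T 1 : K[T;T⁻¹]) * X) :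
      (K[T;T⁻¹])[X]) = X := by
    rw [← mul_assoc, ← map_mul, ← LaurentPolynomial.T_add]; simp
  let δ : (K[T;T⁻¹])[X] →+* (K[T;T⁻¹])[X] :=
    (Polynomial.aeval (C (LaurentPolynomial.T 1 : K[T;T⁻¹]) * X) : (K[T;T⁻¹])[X] →ₐ[K[T;T⁻¹]] (K[T;T⁻¹])[X]).toRingHom
  refine ⟨Spec.map (CommRingCat.ofHom δ), ?_, ?_⟩
  · rw [← Spec.map_comp, ← CommRingCat.ofHom_comp]
    have : (epsR K).comp δ = RingHom.id _ := by
      apply Polynomial.ringHom_ext
      · intro a; simp [δ]
      · simpa [δ] using h1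
    rw [this, CommRingCat.ofHom_id, Spec.map_id]
  · rw [← Spec.map_comp, ← CommRingCat.ofHom_comp]
    have : δ.comp (epsR K) = RingHom.id _ := by
      apply Polynomial.ringHom_ext
      · intro a; simp [δ]
      · simpa [δ] using h2
    rw [this, CommRingCat.ofHom_id, Spec.map_id]

end line

section recursion

variable (K : Type u) [Field K] (n : ℕ)

/-- the comorphism of `(x_1, …, x_n) ↦ x_1 ⋯ x_n` -/
noncomputable abbrev piR : K[X] →+* MvPolynomial (Fin n) K :=
  (Polynomial.aeval (∏ i : Fin n, MvPolynomial.X i : MvPolynomial (Fin n) K)).toRingHom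

/-- `A^n ⟶ A¹`, `(x_1, …, x_n) ↦ x_1 ⋯ x_n` -/
noncomputable abbrev piN : Spec (CommRingCat.of (MvPolynomial (Fin n) K)) ⟶ Spec (CommRingCat.of K[X]) :=
  Spec.map (CommRingCat.ofHom (piR K n))

/-- `K[x_1, …, x_n][X] ≃ K[x_0, …, x_n]`, `X ↦ x_0` -/
noncomputable abbrev phiR : (MvPolynomial (Fin n) K)[X] →+* MvPolynomial (Fin (n + 1)) K :=
  ((MvPolynomial.finSuccEquiv K n).symm.toAlgHom : (MvPolynomial (Fin n) K)[X] →ₐ[K] _).toRingHom

/-- `A^(n+1) ≅ A^n × A¹` -/
noncomputable abbrev phi : Spec (CommRingCat.of (MvPolynomial (Fin (n + 1)) K)) ⟶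
    Spec (CommRingCat.of (MvPolynomial (Fin n) K)[X]) :=
  Spec.map (CommRingCat.ofHom (phiR K n))

theorem phiR_C_X (i : Fin n) : phiR K n (C (MvPolynomial.X i)) = MvPolynomial.X i.succ := by
  change (MvPolynomial.finSuccEquiv K n).symm _ = _
  rw [AlgEquiv.symm_apply_eq, MvPolynomial.finSuccEquiv_X_succ]

theorem phiR_C_C (a : K) : phiR K n (C (MvPolynomial.C a)) = MvPolynomial.C a := by
  exact DFunLike.congr_fun (MvPolynomial.finSuccEquiv_comp_C_eq_C (R := K) n) a

theorem phiR_X : phiR K n X = MvPolynomial.X 0 := by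
  change (MvPolynomial.finSuccEquiv K n).symm X = _
  rw [AlgEquiv.symm_apply_eq, MvPolynomial.finSuccEquiv_X_zero]

instance isIso_phi : IsIso (phi K n) := by
  have : IsIso (CommRingCat.ofHom (phiR K n)) :=
    (MvPolynomial.finSuccEquiv K n).symm.toRingEquiv.toCommRingCatIso.isIso_hom
  infer_instance

theorem piR_X : piR K n X = ∏ i, MvPolynomial.X i := by
  change (Polynomial.aeval (∏ i : Fin n, MvPolynomial.X i : MvPolynomial (Fin n) K)) X = _
  rw [aeval_X]

theorem piR_C (a : K) : piR K n (C a) = MvPolynomial.C a := by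
  change (Polynomial.aeval (∏ i : Fin n, MvPolynomial.X i : MvPolynomial (Fin n) K)) (C a) = _
  rw [aeval_C]
  rfl

theorem multR_X : multR K X = C X * X := by
  change (Polynomial.aeval (C X * X : K[X][X])) X = _
  rw [aeval_X]

theorem multR_C (a : K) : multR K (C a) = C (C a) := by
  change (Polynomial.aeval (C X * X : K[X][X])) (C a) = _
  rw [aeval_C]
  rfl

theorem phi_piN : phi K n ≫ Spec.map (CommRingCat.ofHom (Polynomial.mapRingHom (piR K n))) ≫ mult K =
    piN K (n + 1) := by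
  rw [← Spec.map_comp, ← Spec.map_comp, ← CommRingCat.ofHom_comp, ← CommRingCat.ofHom_comp]
  congr 2
  apply Polynomial.ringHom_ext
  · intro a
    rw [RingHom.comp_apply, RingHom.comp_apply, multR_C, coe_mapRingHom, map_C, piR_C, phiR_C_C, piR_C]
  · rw [RingHom.comp_apply, RingHom.comp_apply, multR_X, coe_mapRingHom, Polynomial.map_mul, map_C, map_X, piR_X,
      map_mul, phiR_X, map_prod, map_prod, piR_X, Fin.prod_univ_succ, mul_comm]
    congr 1
    exact Finset.prod_congr rfl fun i _ => phiR_C_X K n i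

end recursion

end Groth.Agent.Sga4h.H921.Geo
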