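import Mathlib.Algebra.Homology.DerivedCategory.SingleTriangle
import Mathlib.Algebra.Homology.DerivedCategory.TStructure
import Mathlib.Algebra.Homology.DerivedCategory.FullyFaithful

/-!
# Cohomology functors of a triangulated functor between derived categories, on single objects
-/

set_option autoImplicit false

open CategoryTheory CategoryTheory.Limits Pretriangulated DerivedCategory

noncomputable section
namespace Groth.Agent.Sga4h.H921.HF

variable {A B C : Type*} [Category* A] [Abelian A] [HasDerivedCategory A] [Category* B] [Abelian B]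
    [HasDerivedCategory B] [Category* C] [Abelian C] [HasDerivedCategory C]

variable (A B) in
/-- Triangulated functors between derived categories. -/
structure TF where
  /-- the functor -/
  F : DerivedCategory A ⥤ DerivedCategory B
  /-- it commutes with shifts -/
  commShift : F.CommShift ℤ
  /-- it is triangulated -/
  isTriangulated : F.IsTriangulated

attribute [instance] TF.commShift TF.isTriangulated

/-- `F ↦ H^n(T(F[0]))`. -/
def hF (T : TF A B) (n : ℤ) : A ⥤ B :=
  singleFunctor A 0 ⋙ T.F ⋙ homologyFunctor B n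

instance additive_hF (T : TF A B) (n : ℤ) : (hF T n).Additive := by
  unfold hF; infer_instance

/-- An isomorphism of objects of the derived category gives an isomorphism of cohomology. -/
def hIso {T : TF A B} {T' : TF C B} {F : A} {G : C}
    (e : T.F.obj ((singleFunctor A 0).obj F) ≅ T'.F.obj ((singleFunctor C 0).obj G)) (n : ℤ) :
    (hF T n).obj F ≅ (hF T' n).obj G :=
  (homologyFunctor B n).mapIso e

/-- Only one non zero cohomology object. -/
theorem nonempty_single (K : DerivedCategory B) (d : ℤ)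
    (h : ∀ i : ℤ, i ≠ d → IsZero ((homologyFunctor B i).obj K)) :
    Nonempty (K ≅ (singleFunctor B d).obj ((homologyFunctor B d).obj K)) := by
  have h1 : K.IsGE d := by
    rw [DerivedCategory.isGE_iff]
    exact fun i hi => h i hi.ne
  have h2 : K.IsLE d := by
    rw [DerivedCategory.isLE_iff]
    exact fun i hi => h i hi.ne'
  obtain ⟨G, ⟨e⟩⟩ := exists_iso_singleFunctor_obj_of_isGE_of_isLE K d
  exact ⟨e ≪≫ (singleFunctor B d).mapIso
    ((singleFunctorCompHomologyFunctorIso _ d).symm.app G ≪≫ (homologyFunctor B d).mapIso e.symm)⟩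

/-- homology of a shifted single complex under a triangulated functor -/
def homShift (T : TF A B) (G : A) (d m n : ℤ)
    (h : m + d = n) :
    (homologyFunctor B n).obj (T.F.obj ((singleFunctor A d).obj G)) ≅ (hF T m).obj G := by
  refine ?_ ≪≫ (homologyFunctor B m).mapIso (T.F.mapIso
    (((singleFunctors A).shiftIso d 0 d (by simp)).app G))
  refine ?_ ≪≫ (homologyFunctor B m).mapIso ((T.F.commShiftIso d).symm.app _)
  exact (((homologyFunctor B 0).shiftIso d m n (by omega)).symm.app _)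

/-- One row. -/
theorem oneRow (T : TF A B) (T' : TF B C) (F : A) (d : ℤ) (h : ∀ i : ℤ, i ≠ d → IsZero ((hF T i).obj F)) (m n : ℤ) (hmn : m + d = n) :
    Nonempty ((homologyFunctor C n).obj (T'.F.obj (T.F.obj ((singleFunctor A 0).obj F))) ≅
      (hF T' m).obj ((hF T d).obj F)) := by
  obtain ⟨e⟩ := nonempty_single (T.F.obj ((singleFunctor A 0).obj F)) d h
  exact ⟨(homologyFunctor _ n).mapIso (T'.F.mapIso e) ≪≫ homShift T' _ d m n hmn⟩

section les

variable (T : TF A B) {S : ShortComplex A} (hS : S.ShortExact)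

include hS

theorem exact₂ (n : ℤ) : (S.map (hF T n)).Exact :=
  HomologySequence.exact₂ (T.F.mapTriangle.obj hS.singleTriangle)
    (T.F.map_distinguished _ hS.singleTriangle_distinguished) n

/-- The connecting homomorphism. -/
def hδ (n₀ n₁ : ℤ) (h : n₀ + 1 = n₁) : (hF T n₀).obj S.X₃ ⟶ (hF T n₁).obj S.X₁ :=
  HomologySequence.δ (T.F.mapTriangle.obj hS.singleTriangle) n₀ n₁ h

theorem comp_δ (n₀ n₁ : ℤ) (h : n₀ + 1 = n₁) : (hF T n₀).map S.g ≫ hδ T hS n₀ n₁ h = 0 :=
  HomologySequence.comp_δ (T.F.mapTriangle.obj hS.singleTriangle)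
    (T.F.map_distinguished _ hS.singleTriangle_distinguished) n₀ n₁ h

theorem δ_comp (n₀ n₁ : ℤ) (h : n₀ + 1 = n₁) : hδ T hS n₀ n₁ h ≫ (hF T n₁).map S.f = 0 :=
  HomologySequence.δ_comp (T.F.mapTriangle.obj hS.singleTriangle)
    (T.F.map_distinguished _ hS.singleTriangle_distinguished) n₀ n₁ h

theorem exact₃ (n₀ n₁ : ℤ) (h : n₀ + 1 = n₁) : (ShortComplex.mk _ _ (comp_δ T hS n₀ n₁ h)).Exact :=
  HomologySequence.exact₃ (T.F.mapTriangle.obj hS.singleTriangle)
    (T.F.map_distinguished _ hS.singleTriangle_distinguished) n₀ n₁ h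

theorem exact₁ (n₀ n₁ : ℤ) (h : n₀ + 1 = n₁) : (ShortComplex.mk _ _ (δ_comp T hS n₀ n₁ h)).Exact :=
  HomologySequence.exact₁ (T.F.mapTriangle.obj hS.singleTriangle)
    (T.F.map_distinguished _ hS.singleTriangle_distinguished) n₀ n₁ h

end les

section consequences

variable (T : TF A B) {F₁ F₂ F₃ : A} {f : F₁ ⟶ F₂} {g : F₂ ⟶ F₃} {w : f ≫ g = 0}
  (hS : (ShortComplex.mk f g w).ShortExact)

include hS

theorem mono_map_f (n : ℤ) (h : IsZero ((hF T (n - 1)).obj F₃)) : Mono ((hF T n).map f) :=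
  (exact₁ T hS (n - 1) n (by omega)).mono_g (h.eq_of_src _ _)

theorem epi_map_f (n : ℤ) (h : IsZero ((hF T n).obj F₃)) : Epi ((hF T n).map f) :=
  (exact₂ T hS n).epi_f (h.eq_of_tgt _ _)

theorem mono_map_g (n : ℤ) (h : IsZero ((hF T n).obj F₁)) : Mono ((hF T n).map g) :=
  (exact₂ T hS n).mono_g (h.eq_of_src _ _)

theorem epi_map_g (n : ℤ) (h : IsZero ((hF T (n + 1)).obj F₁)) : Epi ((hF T n).map g) :=
  (exact₃ T hS n (n + 1) rfl).epi_f (h.eq_of_tgt _ _)

theorem isIso_map_f (h : ∀ n : ℤ, IsZero ((hF T n).obj F₃)) (n : ℤ) : IsIso ((hF T n).map f) := by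
  have h1 := mono_map_f T hS n (h _)
  have h2 := epi_map_f T hS n (h _)
  exact isIso_of_mono_of_epi _

theorem isIso_map_g (h : ∀ n : ℤ, IsZero ((hF T n).obj F₁)) (n : ℤ) : IsIso ((hF T n).map g) := by
  have h1 := mono_map_g T hS n (h _)
  have h2 := epi_map_g T hS n (h _)
  exact isIso_of_mono_of_epi _

theorem isZero_X₃ (n : ℤ) (h₁ : IsZero ((hF T (n + 1)).obj F₁)) (h₂ : IsZero ((hF T n).obj F₂)) :
    IsZero ((hF T n).obj F₃) :=
  (exact₃ T hS n (n + 1) rfl).isZero_X₂ (h₂.eq_of_src _ _) (h₁.eq_of_tgt _ _)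

theorem isZero_X₂ (n : ℤ) (h₁ : IsZero ((hF T n).obj F₁)) (h₃ : IsZero ((hF T n).obj F₃)) :
    IsZero ((hF T n).obj F₂) :=
  (exact₂ T hS n).isZero_X₂ (h₁.eq_of_src _ _) (h₃.eq_of_tgt _ _)

theorem isZero_X₁ (n : ℤ) (h₂ : IsZero ((hF T (n + 1)).obj F₂)) (h₃ : IsZero ((hF T n).obj F₃)) :
    IsZero ((hF T (n + 1)).obj F₁) :=
  (exact₁ T hS n (n + 1) rfl).isZero_X₂ (h₃.eq_of_src _ _) (h₂.eq_of_tgt _ _)

end consequences

end Groth.Agent.Sga4h.H921.HF
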