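import Groth.Agent.Sga4h.OpenClosed
import Groth.Agent.Sga4h.PushDer
import Groth.Agent.Sga4h.Edge
import Groth.Agent.Sga4h.H921.HF

/-!
# Direct images: one row Leray

`Rpush k n F = Rpush g m (Rpush f d F)` for `k = gf` when `Rpush f i F = 0` for `i ≠ d`, `m + d = n`.
-/

set_option autoImplicit false
universe u

open CategoryTheory CategoryTheory.Limits AlgebraicGeometry Opposite Pretriangulated

attribute [local instance] HasDerivedCategory.standard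

noncomputable section
namespace Groth.Agent.Sga4h.H921.Rp

open Groth.Agent.Etrest.RDer3 Groth.Agent.Etrest.DEtPush

variable {X Y Z : Scheme.{u}}

/-- `Rf_*` -/
def Pt (f : X ⟶ Y) : HF.TF (EtCoh.Ab X) (EtCoh.Ab Y) where
  F := TR (EtCoh.push f)
  commShift := inferInstance
  isTriangulated := inferInstance

/-- `rp f n F = R^n f_* F` (notation for `(HF.hF (Pt f) n).obj F`). -/
scoped syntax:max "rp " term:max term:max term:max : term
macro_rules | `(rp $f $n $F) => `((Groth.Agent.Sga4h.H921.HF.hF (Groth.Agent.Sga4h.H921.Rp.Pt $f) $n).obj $F)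

theorem nonempty_rp (f : X ⟶ Y) (F : EtCoh.Ab X) (q : ℕ) : Nonempty (rp f q F ≅ (EtCoh.Rpush f q).obj F) :=
  ⟨(HTRsingle (EtCoh.push f) q).app F⟩

theorem isZero_rp_neg (f : X ⟶ Y) (F : EtCoh.Ab X) (n : ℤ) (hn : n < 0) : IsZero (rp f n F) :=
  isZero_HTRsingle (EtCoh.push f) F n hn

theorem nonneg_cases (n : ℤ) : n < 0 ∨ ∃ q : ℕ, n = q := by
  rcases lt_or_ge n 0 with h | h
  · exact Or.inl h
  · exact Or.inr ⟨n.toNat, (Int.toNat_of_nonneg h).symm⟩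

/-- One row, integers. -/
theorem oneRow_int {f : X ⟶ Y} {g : Y ⟶ Z} {k : X ⟶ Z} (w : f ≫ g = k) (F : EtCoh.Ab X) (d : ℤ)
    (h : ∀ i : ℤ, i ≠ d → IsZero (rp f i F)) (m n : ℤ) (hmn : m + d = n) :
    Nonempty (rp k n F ≅ rp g m (rp f d F)) := by
  obtain ⟨e'⟩ := HF.oneRow (Pt f) (Pt g) F d h m n hmn
  exact ⟨(DerivedCategory.homologyFunctor _ n).mapIso ((OpenClosed.pushDComp w).symm.app _) ≪≫ e'⟩

/-- One row. -/
theorem oneRow {f : X ⟶ Y} {g : Y ⟶ Z} {k : X ⟶ Z} (w : f ≫ g = k) (F : EtCoh.Ab X) (d : ℕ)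
    (h : ∀ i : ℕ, i ≠ d → IsZero ((EtCoh.Rpush f i).obj F)) (m n : ℕ) (hmn : m + d = n) :
    Nonempty ((EtCoh.Rpush k n).obj F ≅ (EtCoh.Rpush g m).obj ((EtCoh.Rpush f d).obj F)) := by
  have h' : ∀ i : ℤ, i ≠ d → IsZero (rp f i F) := by
    intro i hi
    rcases nonneg_cases i with h1 | ⟨q, rfl⟩
    · exact isZero_rp_neg f F i h1
    · obtain ⟨e⟩ := nonempty_rp f F q
      exact (h q (by exact_mod_cast hi)).of_iso e
  obtain ⟨e1⟩ := oneRow_int w F d h' m n (by exact_mod_cast hmn)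
  obtain ⟨e2⟩ := nonempty_rp k F n
  obtain ⟨e3⟩ := nonempty_rp f F d
  obtain ⟨e4⟩ := nonempty_rp g (rp f d F) m
  exact ⟨e2.symm ≪≫ e1 ≪≫ e4 ≪≫ (EtCoh.Rpush g m).mapIso e3⟩

/-- Below the row. -/
theorem isZero_below {f : X ⟶ Y} {g : Y ⟶ Z} {k : X ⟶ Z} (w : f ≫ g = k) (F : EtCoh.Ab X) (d : ℕ)
    (h : ∀ i : ℕ, i ≠ d → IsZero ((EtCoh.Rpush f i).obj F)) (n : ℕ) (hn : n < d) :
    IsZero ((EtCoh.Rpush k n).obj F) := by
  have h' : ∀ i : ℤ, i ≠ d → IsZero (rp f i F) := by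
    intro i hi
    rcases nonneg_cases i with h1 | ⟨q, rfl⟩
    · exact isZero_rp_neg f F i h1
    · obtain ⟨e⟩ := nonempty_rp f F q
      exact (h q (by exact_mod_cast hi)).of_iso e
  obtain ⟨e1⟩ := oneRow_int w F d h' (n - d) n (by ring)
  obtain ⟨e2⟩ := nonempty_rp k F n
  exact (isZero_rp_neg g _ _ (by omega)).of_iso (e2.symm ≪≫ e1)

/-- All rows vanish. -/
theorem isZero_comp {f : X ⟶ Y} {g : Y ⟶ Z} {k : X ⟶ Z} (w : f ≫ g = k) (F : EtCoh.Ab X)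
    (h : ∀ i : ℕ, IsZero ((EtCoh.Rpush f i).obj F)) (n : ℕ) : IsZero ((EtCoh.Rpush k n).obj F) := by
  obtain ⟨e⟩ := oneRow w F 0 (fun i _ => h i) n n (by simp)
  exact ((EtCoh.Rpush g n).map_isZero (h 0)).of_iso e

/-- The first nonvanishing row. -/
theorem oneRow_low {f : X ⟶ Y} {g : Y ⟶ Z} {k : X ⟶ Z} (w : f ≫ g = k) (F : EtCoh.Ab X) (d : ℕ)
    (h : ∀ i : ℕ, i < d → IsZero ((EtCoh.Rpush f i).obj F)) :
    Nonempty ((EtCoh.Rpush k d).obj F ≅ (EtCoh.push g).obj ((EtCoh.Rpush f d).obj F)) := by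
  subst w
  exact ⟨(LerayAcyc.rightDerivedCongr (EtCoh.pushComp g f) d).symm.app F ≪≫
    Edge.rightDerivedCompIso (EtCoh.push f) (EtCoh.push g) (PushDer.push_injective f) F d h⟩

theorem isZero_low {f : X ⟶ Y} {g : Y ⟶ Z} {k : X ⟶ Z} (w : f ≫ g = k) (F : EtCoh.Ab X) (d : ℕ)
    (h : ∀ i : ℕ, i < d → IsZero ((EtCoh.Rpush f i).obj F)) (n : ℕ) (hn : n < d) :
    IsZero ((EtCoh.Rpush k n).obj F) := by
  obtain ⟨e⟩ := oneRow_low w F n (fun i hi => h i (hi.trans hn))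
  exact ((EtCoh.push g).map_isZero (h n hn)).of_iso e

end Groth.Agent.Sga4h.H921.Rp
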